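import Cfsg.Agent.H291.NR.Core
import Cfsg.Agent.H129.CycT2
import Cfsg.Agent.H129.CycCardF
import Cfsg.Agent.H129.CycRow
import Cfsg.Agent.H94.RankOne
import Cfsg.Agent.SignalizersComponents.BalEndSz
import Cfsg.Agent.OddCyclic.T1SzFacts

/-!
# Disconnected prime graphs (S3440): the exceptional groups of Lie type
-/

set_option autoImplicit false

namespace Cfsg.Agent.H291.NR

open Subgroup Cfsg Cfsg.Lie Cfsg.Agent.H389.NR
open Cfsg.Agent.H389.JSq (Has)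
open Cfsg.Agent.H129.CycT

/-- a natural number with a given nonnegative integer value -/
theorem exists_nat' {z : ℤ} (h : 0 ≤ z) : ∃ N : ℕ, (N : ℤ) = z := ⟨z.toNat, Int.toNat_of_nonneg h⟩

theorem odd_of {N q : ℕ} {v w : ℤ} (h : (N : ℤ) = 1 + (q : ℤ) * ((q : ℤ) - 1) * w + 2 * v) : ¬ 2 ∣ N := by
  intro h2
  have h3 : (2 : ℤ) ∣ N := by exact_mod_cast h2
  have h4 : (2 : ℤ) ∣ (q : ℤ) * ((q : ℤ) - 1) := by
    have := Int.even_mul_pred_self (q : ℤ)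
    exact this.two_dvd
  have h5 : (2 : ℤ) ∣ 1 := by
    have e : (1 : ℤ) = N - ((q : ℤ) * ((q : ℤ) - 1) * w + 2 * v) := by rw [h]; ring
    rw [e]
    exact dvd_sub h3 (dvd_add (h4.mul_right w) (dvd_mul_right 2 v))
  norm_num at h5

theorem disc_of_exact_two {G : Type*} [Group G] [Finite G] {m : ℕ} (h : CycExact G m) (hm : m ≠ 1)
    (h2m : ¬ 2 ∣ m) (h2 : 2 ∣ Nat.card G) : Disc G :=
  disc_of_exact h hm Nat.prime_two h2m h2

/-! ### `G2` -/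

theorem disc_g2 {L : Type*} [Group L] (h2 : 2 ∣ Nat.card L) (h : IsoChevG2 L) : Disc L := by
  obtain ⟨F, i1, i2, hq3, ⟨e⟩⟩ := h
  refine disc_congr e.symm ?_
  rw [Nat.card_congr e.toEquiv] at h2
  set q := Fintype.card F with hq
  have hq3' : (3 : ℤ) ≤ q := by exact_mod_cast hq3
  obtain ⟨N, hN⟩ := exists_nat' (z := 1 + (q : ℤ) + (q : ℤ) ^ 2) (by positivity)
  by_cases h3 : 3 ∣ N
  · obtain ⟨M, hM⟩ := exists_nat' (z := 1 - (q : ℤ) + (q : ℤ) ^ 2) (by nlinarith)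
    refine disc_of_exact_two (exact_G2_6 hq.symm hM ?_) ?_ (odd_of (q := q) (w := 1) (v := 0) (by rw [hM]; ring)) h2
    · intro h3M
      have a1 : (3 : ℤ) ∣ N := by exact_mod_cast h3
      have a2 : (3 : ℤ) ∣ M := by exact_mod_cast h3M
      rw [hN] at a1
      rw [hM] at a2
      have a3 : (3 : ℤ) ∣ 2 * q := by
        have e1 : 2 * (q : ℤ) = (1 + (q : ℤ) + (q : ℤ) ^ 2) - (1 - (q : ℤ) + (q : ℤ) ^ 2) := by ring
        rw [e1]; exact dvd_sub a1 a2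
      have a4 : (3 : ℤ) ∣ q := by omega
      have a5 : (3 : ℤ) ∣ 1 := by
        have e1 : (1 : ℤ) = (1 + (q : ℤ) + (q : ℤ) ^ 2) - q * (1 + q) := by ring
        rw [e1]; exact dvd_sub a1 (a4.mul_right _)
      norm_num at a5
    · rintro rfl
      push_cast at hM
      nlinarith
  · refine disc_of_exact_two (exact_G2_3 hq.symm hN h3) ?_ (odd_of (q := q) (w := 1) (v := q) (by rw [hN]; ring)) h2
    rintro rfl
    push_cast at hN
    nlinarith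

/-! ### `F4` -/

theorem exists_twelve {q : ℕ} (hq : 2 ≤ q) : ∃ N : ℕ, (N : ℤ) = 1 - (q : ℤ) ^ 2 + (q : ℤ) ^ 4 ∧ N ≠ 1 ∧ ¬ 2 ∣ N := by
  have hq' : (2 : ℤ) ≤ q := by exact_mod_cast hq
  have h1 : (4 : ℤ) ≤ (q : ℤ) ^ 2 := by nlinarith
  obtain ⟨N, hN⟩ := exists_nat' (z := 1 - (q : ℤ) ^ 2 + (q : ℤ) ^ 4) (by nlinarith)
  refine ⟨N, hN, ?_, odd_of (q := q) (w := q * (q + 1)) (v := 0) (by rw [hN]; ring)⟩
  rintro rfl
  push_cast at hN
  nlinarith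

theorem disc_f4 {L : Type*} [Group L] (h2 : 2 ∣ Nat.card L) (h : IsoF4 L) : Disc L := by
  obtain ⟨F, i1, i2, ⟨e⟩⟩ := h
  refine disc_congr e.symm ?_
  rw [Nat.card_congr e.toEquiv] at h2
  obtain ⟨N, hN, h1, h3⟩ := exists_twelve (q := Fintype.card F) Fintype.one_lt_card
  exact disc_of_exact_two (exact_F4_12 rfl hN) h1 h3 h2

/-! ### `3D4` -/

theorem disc_3d4 {L : Type*} [Group L] (h2 : 2 ∣ Nat.card L) (h : Iso3D4 L) : Disc L := by
  obtain ⟨K, i1, i2, q, hq, hK, ⟨e⟩⟩ := h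
  refine disc_congr e.symm ?_
  rw [Nat.card_congr e.toEquiv] at h2
  obtain ⟨N, hN, h1, h3⟩ := exists_twelve (q := q) hq.two_le
  exact disc_of_exact_two (exact_tD4_12 hq hK hN) h1 h3 h2

/-! ### `E6` and `2E6` -/

theorem div_facts {N g : ℕ} (hg : g ∣ 3) (hgN : g ∣ N) (hN : 6 ≤ N) (h2 : ¬ 2 ∣ N) :
    N / g ≠ 1 ∧ ¬ 2 ∣ N / g := by
  have hg3 : g ≤ 3 := Nat.le_of_dvd (by norm_num) hg
  refine ⟨fun h => ?_, fun h => h2 (h.trans (Nat.div_dvd_of_dvd hgN))⟩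
  have := Nat.div_mul_cancel hgN
  rw [h] at this
  omega

theorem disc_e6 {L : Type*} [Group L] (h2 : 2 ∣ Nat.card L) (h : IsoChevE6 L) : Disc L := by
  obtain ⟨F, i1, i2, ⟨e⟩⟩ := h
  refine disc_congr e.symm ?_
  rw [Nat.card_congr e.toEquiv] at h2
  set q := Fintype.card F with hq
  have hq2 : 2 ≤ q := Fintype.one_lt_card
  have hq' : (2 : ℤ) ≤ q := by exact_mod_cast hq2
  have h8 : (8 : ℤ) ≤ (q : ℤ) ^ 3 := by nlinarith [pow_le_pow_left₀ (by norm_num) hq' 3]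
  obtain ⟨N, hN⟩ := exists_nat' (z := 1 + (q : ℤ) ^ 3 + (q : ℤ) ^ 6) (by positivity)
  have hN6 : 6 ≤ N := by
    have : (6 : ℤ) ≤ N := by rw [hN]; nlinarith
    exact_mod_cast this
  have hgN : Nat.gcd 3 (q - 1) ∣ N := by
    by_cases hd : 3 ∣ q - 1
    · rw [Nat.gcd_eq_left hd]
      obtain ⟨k, hk⟩ := hd
      have hqk : (q : ℤ) = 3 * k + 1 := by
        have : q = 3 * k + 1 := by omega
        exact_mod_cast this
      have : (3 : ℤ) ∣ N := by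
        rw [hN, hqk]
        refine ⟨1 + k * 9 + k ^ 2 * 54 + k ^ 3 * 189 + k ^ 4 * 405 + k ^ 5 * 486 + k ^ 6 * 243, ?_⟩
        ring
      exact_mod_cast this
    · have : Nat.gcd 3 (q - 1) = 1 := (Nat.Prime.coprime_iff_not_dvd Nat.prime_three).2 hd
      rw [this]
      exact one_dvd _
  obtain ⟨h1, h3⟩ := div_facts (Nat.gcd_dvd_left 3 (q - 1)) hgN hN6
    (odd_of (q := q) (w := q ^ 2 * (q ^ 2 + q + 1)) (v := q ^ 3) (by rw [hN]; ring))
  exact disc_of_exact_two (exact_E6_9 hq.symm hN) h1 h3 h2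

theorem disc_2e6 {L : Type*} [Group L] (h2 : 2 ∣ Nat.card L) (h : Iso2E6 L) : Disc L := by
  obtain ⟨K, i1, i2, q, hq, hK, ⟨e⟩⟩ := h
  refine disc_congr e.symm ?_
  rw [Nat.card_congr e.toEquiv] at h2
  have hq2 : 2 ≤ q := hq.two_le
  have hq' : (2 : ℤ) ≤ q := by exact_mod_cast hq2
  have h8 : (8 : ℤ) ≤ (q : ℤ) ^ 3 := by nlinarith [pow_le_pow_left₀ (by norm_num) hq' 3]
  obtain ⟨N, hN⟩ := exists_nat' (z := 1 - (q : ℤ) ^ 3 + (q : ℤ) ^ 6) (by nlinarith)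
  have hN6 : 6 ≤ N := by
    have : (6 : ℤ) ≤ N := by rw [hN]; nlinarith
    exact_mod_cast this
  have hgN : Nat.gcd 3 (q + 1) ∣ N := by
    by_cases hd : 3 ∣ q + 1
    · rw [Nat.gcd_eq_left hd]
      obtain ⟨k, hk⟩ := hd
      have hqk : (q : ℤ) = 3 * k - 1 := by
        have : q + 1 = 3 * k := hk
        have h4 : ((q + 1 : ℕ) : ℤ) = 3 * k := by exact_mod_cast this
        push_cast at h4
        linarith
      have : (3 : ℤ) ∣ N := by
        rw [hN, hqk]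
        refine ⟨1 - k * 9 + k ^ 2 * 54 - k ^ 3 * 189 + k ^ 4 * 405 - k ^ 5 * 486 + k ^ 6 * 243, ?_⟩
        ring
      exact_mod_cast this
    · have : Nat.gcd 3 (q + 1) = 1 := (Nat.Prime.coprime_iff_not_dvd Nat.prime_three).2 hd
      rw [this]
      exact one_dvd _
  obtain ⟨h1, h3⟩ := div_facts (Nat.gcd_dvd_left 3 (q + 1)) hgN hN6
    (odd_of (q := q) (w := q ^ 2 * (q ^ 2 + q + 1)) (v := 0) (by rw [hN]; ring))
  exact disc_of_exact_two (exact_tE6_18 hq hK hN) h1 h3 h2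

/-! ### `E8` -/

theorem disc_e8 {L : Type*} [Group L] (h2 : 2 ∣ Nat.card L) (h : IsoE8 L) : Disc L := by
  obtain ⟨F, i1, i2, ⟨e⟩⟩ := h
  refine disc_congr e.symm ?_
  rw [Nat.card_congr e.toEquiv] at h2
  set q := Fintype.card F with hq
  have hq2 : 2 ≤ q := Fintype.one_lt_card
  have hq' : (2 : ℤ) ≤ q := by exact_mod_cast hq2
  have h8 : (16 : ℤ) ≤ (q : ℤ) ^ 4 := by nlinarith [pow_le_pow_left₀ (by norm_num) hq' 4]
  obtain ⟨N, hN⟩ := exists_nat' (z := 1 - (q : ℤ) ^ 4 + (q : ℤ) ^ 8) (by nlinarith)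
  refine disc_of_exact_two (exact_E8_24 hq.symm hN) ?_
    (odd_of (q := q) (w := q ^ 3 * (q + 1) * (q ^ 2 + 1)) (v := 0) (by rw [hN]; ring)) h2
  rintro rfl
  push_cast at hN
  nlinarith

/-! ### `2F4` -/

theorem disc_2f4 {L : Type*} [Group L] (h2 : 2 ∣ Nat.card L) (h : Iso2F4 L) : Disc L := by
  obtain ⟨K, i1, i2, m, hm, hK, ⟨e⟩⟩ := h
  refine disc_congr e.symm ?_
  rw [Nat.card_congr e.toEquiv] at h2
  have hfin : Finite ↥(twistedF4 K (2 ^ m)) := inferInstance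
  have h0 : (0 : ℤ) < 2 ^ m := by positivity
  obtain ⟨N, hN⟩ := exists_nat' (z := 1 + 2 * (2 ^ m) + 2 * (2 ^ m) ^ 2 + 4 * (2 ^ m) ^ 3 + 4 * (2 ^ m) ^ 4)
    (by positivity)
  refine disc_of_exact_two (Cfsg.Agent.H129.CycCard.exact_tF4_plus hK hN) ?_
    (odd_of (q := 0) (w := 0) (v := 2 ^ m + (2 ^ m) ^ 2 + 2 * (2 ^ m) ^ 3 + 2 * (2 ^ m) ^ 4) (by rw [hN]; ring)) h2
  rintro rfl
  push_cast at hN
  nlinarith [pow_pos h0 2, pow_pos h0 3, pow_pos h0 4]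

/-! ### `2G2` -/

theorem disc_ree {L : Type*} [Group L] (h2 : 2 ∣ Nat.card L) (h : IsoRee L) : Disc L := by
  obtain ⟨K, i1, i2, m, hm, hK, ⟨e⟩⟩ := h
  refine disc_congr e.symm ?_
  rw [Nat.card_congr e.toEquiv] at h2
  have hfin : Finite ↥(twistedG2 K (3 ^ m)) := inferInstance
  set k := 3 ^ (2 * m + 1) - 3 ^ (m + 1) + 1 with hk
  have hlt : 3 ^ (m + 1) < 3 ^ (2 * m + 1) := Nat.pow_lt_pow_right (by norm_num) (by omega)
  have hk1 : k ≠ 1 := by omega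
  obtain ⟨r, hr, hrk⟩ := Nat.exists_prime_and_dvd hk1
  have hrG : r ∣ Nat.card ↥(twistedG2 K (3 ^ m)) := by
    obtain ⟨g, hg⟩ := (S1159.result hm hK k).2 (Or.inr (Or.inr (Or.inr (Or.inr (Or.inl dvd_rfl)))))
    exact hrk.trans (hg ▸ orderOf_dvd_natCard g)
  have hA : ∀ a, a.Prime → a ∣ k → a ≠ 2 ∧ a ≠ 3 ∧ ¬ a ∣ 3 ^ (2 * m + 1) - 1 ∧ ¬ a ∣ 3 ^ (2 * m + 1) + 1 :=
    fun a ha had => H94.RankOne.arith hm ha (Or.inl had)
  refine ⟨{a | a ∣ k}, ⟨r, hrk, hr, hrG⟩, ⟨2, ?_, Nat.prime_two, h2⟩, ?_⟩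
  · intro h4
    exact (hA 2 Nat.prime_two h4).1 rfl
  · intro a hak s hsk ha hs _ _ hh
    obtain ⟨n2, n3, nm, np⟩ := hA a ha hak
    rcases (S1159.result hm hK (a * s)).1 hh with h | h | h | h | h | h
    · have h5 : a ∣ 2 * 3 := (dvd_mul_right a s).trans h
      rcases ha.dvd_mul.1 h5 with h6 | h6
      · exact n2 ((Nat.prime_dvd_prime_iff_eq ha Nat.prime_two).1 h6)
      · exact n3 ((Nat.prime_dvd_prime_iff_eq ha Nat.prime_three).1 h6)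
    · have h5 : a ∣ 3 * 3 := (dvd_mul_right a s).trans h
      rcases ha.dvd_mul.1 h5 with h6 | h6 <;>
        exact n3 ((Nat.prime_dvd_prime_iff_eq ha Nat.prime_three).1 h6)
    · exact nm ((dvd_mul_right a s).trans h)
    · refine np (((dvd_mul_right a s).trans h).trans (Nat.div_dvd_of_dvd ?_))
      have : 3 ^ (2 * m + 1) % 2 = 1 := by rw [Nat.pow_mod]; norm_num
      omega
    · exact hsk ((dvd_mul_left s a).trans h)
    · have h5 : a ∣ 3 ^ (2 * m + 1) + 3 ^ (m + 1) + 1 := (dvd_mul_right a s).trans h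
      have h6 : a ∣ 2 * 3 ^ (m + 1) := by
        have e1 : 2 * 3 ^ (m + 1) = (3 ^ (2 * m + 1) + 3 ^ (m + 1) + 1) - k := by omega
        rw [e1]
        exact Nat.dvd_sub h5 hak
      rcases ha.dvd_mul.1 h6 with h7 | h7
      · exact n2 ((Nat.prime_dvd_prime_iff_eq ha Nat.prime_two).1 h7)
      · exact n3 ((Nat.prime_dvd_prime_iff_eq ha Nat.prime_three).1 (ha.dvd_of_dvd_pow h7))

/-! ### `Sz` -/

theorem disc_sz {L : Type*} [Group L] [Finite L] (h2 : 2 ∣ Nat.card L) (h : IsoSuzuki L) : Disc L := by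
  have : Fact (Nat.Prime 2) := ⟨Nat.prime_two⟩
  have P : Sylow 2 L := default
  obtain ⟨y, s, -, -, hy, -⟩ := OddCyclic.T1SzFacts.exists_five h P
  refine disc_of_cent (A := {2}) (a := 2) (b := 5) rfl Nat.prime_two h2 (by decide) (by norm_num)
    (hy ▸ orderOf_dvd_natCard y) ?_
  intro r hr _ s hs hsp x hx hd
  rw [Set.mem_singleton_iff] at hr
  subst hr
  have h3 := SignalizersComponents.BalEndSz.isPGroup_centralizer_suzuki h hx
  obtain ⟨n, hn⟩ := IsPGroup.iff_card.1 h3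
  rw [hn] at hd
  exact hs ((Nat.prime_dvd_prime_iff_eq hsp Nat.prime_two).1 (hsp.dvd_of_dvd_pow hd))

end Cfsg.Agent.H291.NR
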