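import Mathlib
import Cfsg.Agent.H389.NR.Fr
import Cfsg.Agent.H129.CycRow

/-!
# Disconnected prime graphs (S3440): tools

* `disc_of_exact` : a cyclic subgroup of odd order `m ≠ 1` which is the centralizer of its nontrivial elements;
* `disc_of_self` : an element of prime order `r` with a centralizer of order `r`.
-/

set_option autoImplicit false

namespace Cfsg.Agent.H291.NR

open Subgroup Cfsg.Agent.H389.NR
open Cfsg.Agent.H389.JSq (Has)
open Cfsg.Agent.H129.CycT

section

variable {G : Type*} [Group G]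

theorem disc_congr {H : Type*} [Group H] (e : G ≃* H) (h : Disc G) : Disc H := by
  obtain ⟨A, ⟨a, h1, h2, h3⟩, ⟨b, h4, h5, h6⟩, h7⟩ := h
  have hc : Nat.card G = Nat.card H := Nat.card_congr e.toEquiv
  refine ⟨A, ⟨a, h1, h2, hc ▸ h3⟩, ⟨b, h4, h5, hc ▸ h6⟩, fun c hcA d hdA hcp hdp hcd hdd hh => ?_⟩
  refine h7 c hcA d hdA hcp hdp (hc ▸ hcd) (hc ▸ hdd) ?_
  obtain ⟨g, hg⟩ := hh
  exact ⟨e.symm g, by rw [e.symm.orderOf_eq, hg]⟩

/-- the general criterion: all centralizers of elements of order `a ∈ A` have order prime to the primes outside `A` -/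
theorem disc_of_cent {A : Set ℕ} {a b : ℕ} (haA : a ∈ A) (ha : a.Prime) (hda : a ∣ Nat.card G) (hbA : b ∉ A)
    (hb : b.Prime) (hdb : b ∣ Nat.card G)
    (h : ∀ r ∈ A, r.Prime → ∀ s ∉ A, s.Prime → ∀ x : G, orderOf x = r →
      ¬ s ∣ Nat.card (centralizer ({x} : Set G))) : Disc G := by
  refine ⟨A, ⟨a, haA, ha, hda⟩, ⟨b, hbA, hb, hdb⟩, fun r hr s hs hrp hsp _ _ hh => ?_⟩
  obtain ⟨g, hg⟩ := hh
  have h1 : orderOf (g ^ s) = r := by
    rw [orderOf_pow' g hsp.ne_zero, hg, Nat.gcd_eq_right (Dvd.intro_left r rfl),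
      Nat.mul_div_cancel _ hsp.pos]
  refine h r hr hrp s hs hsp (g ^ s) h1 ?_
  have hgc : g ∈ centralizer ({g ^ s} : Set G) := by
    rw [mem_centralizer_singleton_iff]
    exact (Commute.self_pow g s).eq
  have h2 := orderOf_dvd_natCard (⟨g, hgc⟩ : centralizer ({g ^ s} : Set G))
  rw [Subgroup.orderOf_mk, hg] at h2
  exact (Dvd.intro_left r rfl).trans h2

theorem disc_of_exact [Finite G] {m : ℕ} (h : CycExact G m) (hm : m ≠ 1) {b : ℕ} (hb : b.Prime)
    (hbm : ¬ b ∣ m) (hdb : b ∣ Nat.card G) : Disc G := by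
  obtain ⟨r, hr, hrm⟩ := Nat.exists_prime_and_dvd hm
  have hmG : m ∣ Nat.card G := by
    obtain ⟨T, -, hT, -⟩ := h
    rw [← hT]
    exact card_subgroup_dvd_card T
  refine disc_of_cent (A := {a | a ∣ m}) (a := r) (b := b) hrm hr (hrm.trans hmG) hbm hb hdb ?_
  intro r hrA hr s hsA _ x hx hd
  rw [Cfsg.Agent.H129.CycT.CycExact.card_centralizer hr hrA h hx] at hd
  exact hsA hd

theorem disc_of_self [Finite G] {r : ℕ} (hr : r.Prime) {x : G} (hx : orderOf x = r)
    (hc : Nat.card (centralizer ({x} : Set G)) = r) {b : ℕ} (hb : b.Prime) (hbr : b ≠ r)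
    (hdb : b ∣ Nat.card G) : Disc G := by
  have : Fact r.Prime := ⟨hr⟩
  have hx1 : x ≠ 1 := by
    rintro rfl
    rw [orderOf_one] at hx
    exact hr.one_lt.ne hx
  have heq : zpowers x = centralizer ({x} : Set G) := by
    refine Subgroup.eq_of_le_of_card_ge ?_ ?_
    · rw [zpowers_le, mem_centralizer_singleton_iff]
    · rw [hc, Nat.card_zpowers, hx]
  refine disc_of_exact (m := r) ⟨zpowers x, inferInstance, by rw [Nat.card_zpowers, hx], ?_⟩ hr.one_lt.ne' hb
    (fun h => hbr ((Nat.prime_dvd_prime_iff_eq hb hr).1 h)) hdb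
  intro y hy hy1
  obtain ⟨k, rfl⟩ := mem_zpowers_iff.1 hy
  refine le_antisymm ?_ ?_
  · have h1 : zpowers (x ^ k) = zpowers x := by
      refine Subgroup.eq_of_le_of_card_ge (by rw [zpowers_le]; exact hy) ?_
      rw [Nat.card_zpowers, Nat.card_zpowers, hx]
      have h2 : orderOf (x ^ k) ∣ r := by
        rw [← hx]
        exact orderOf_dvd_of_mem_zpowers hy
      rcases (Nat.dvd_prime hr).1 h2 with h3 | h3
      · exact absurd (orderOf_eq_one_iff.1 h3) hy1
      · rw [h3]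
    rw [heq]
    intro z hz
    rw [mem_centralizer_singleton_iff] at hz ⊢
    have hxz : x ∈ zpowers (x ^ k) := by rw [h1]; exact mem_zpowers x
    obtain ⟨j, hj⟩ := mem_zpowers_iff.1 hxz
    have hc2 : Commute z (x ^ k) := hz
    have := hc2.zpow_right j
    rw [hj] at this
    exact this.eq
  · rw [zpowers_le, mem_centralizer_singleton_iff]
    exact ((Commute.refl x).zpow_right k).eq

end

end Cfsg.Agent.H291.NR
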