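import Cfsg.Agent.H291.NR.Mathieu
import Cfsg.Agent.H208.DS.Cent
import Cfsg.Agent.H547.SelfCent.He
import Cfsg.Agent.H898.J3Cent
import Cfsg.Agent.H547.SelfCent.Ru
import Cfsg.Agent.H904.McLCent
import Cfsg.Agent.H904.HSIso
import Cfsg.Agent.H474.Suz13.Main
import Cfsg.Agent.H613.Ly5.ThirtyOne
import Cfsg.Agent.H845.HNNineteen
import Cfsg.Agent.H713.Spor.Fi22
import Cfsg.Agent.H980.PwFi23
import Cfsg.Agent.H30.IMFi24
import Cfsg.Agent.H547.SelfCent.Tits
import Cfsg.Agent.H393.Iso.Ru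
import Cfsg.Agent.H393.Iso.TitsJ4
import Cfsg.Agent.NotCT.Orders
import Cfsg.Agent.H71.Tor.JTwo

/-!
# Disconnected prime graphs (S3440): sporadic groups, first part
-/

set_option autoImplicit false

namespace Cfsg.Agent.H291.NR

open Subgroup Cfsg Cfsg.Agent.H389.NR
open Cfsg.Agent

/-- every element of order `r` is self-centralizing -/
theorem disc_row {G : Type*} [Group G] {N : ℕ} (hN : Nat.card G = N) {r : ℕ}
    (hc : ∀ x : G, orderOf x = r → Nat.card (centralizer ({x} : Set G)) = r)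
    (h : (r.Prime ∧ N ≠ 0 ∧ 2 ∣ N ∧ 2 ≠ r) ∧ r ∣ N := by norm_num) : Disc G := by
  have : Fact r.Prime := ⟨h.1.1⟩
  have : Finite G := Nat.finite_of_card_ne_zero (by rw [hN]; exact h.1.2.1)
  obtain ⟨x, hx⟩ := exists_prime_orderOf_dvd_card' r (by rw [hN]; exact h.2)
  exact disc_self hN hx (hc x hx) h.1

theorem fin_of {G : Type*} [Group G] {N : ℕ} (hN : Nat.card G = N) (h : N ≠ 0 := by norm_num) : Finite G :=
  Nat.finite_of_card_ne_zero (by rw [hN]; exact h)

theorem cz {G : Type*} [Group G] (x : G) : centralizer ((zpowers x : Subgroup G) : Set G) = centralizer ({x} : Set G) := by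
  rw [zpowers_eq_closure, centralizer_closure]

variable {L : Type*} [Group L]

theorem disc_co1 (h : Spor.IsoCo1 L) : Disc L :=
  have := fin_of (NotCT.Orders.co1 h)
  disc_row (r := 23) (NotCT.Orders.co1 h) fun _ hx => H208.DS.cent_co1 h hx

theorem disc_co2 (h : Spor.IsoCo2 L) : Disc L :=
  have := fin_of (NotCT.Orders.co2 h)
  disc_row (r := 23) (NotCT.Orders.co2 h) fun _ hx => H208.DS.cent_co2 h hx

theorem disc_co3 (h : Spor.IsoCo3 L) : Disc L :=
  have := fin_of (NotCT.Orders.co3 h)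
  disc_row (r := 23) (NotCT.Orders.co3 h) fun _ hx => H208.DS.cent_co3 h hx

theorem disc_j3 (h : Spor.IsoJ3 L) : Disc L :=
  disc_row (r := 19) (NotCT.Orders.j3 h) fun _ hx => H898.J3Cent.card_nineteen h hx

theorem disc_hs (h : Spor.IsoHS L) : Disc L :=
  disc_row (r := 11) (NotCT.Orders.hs h) fun _ hx => H904.HSIso.card_eleven h hx

theorem disc_he (h : Spor.IsoHe L) : Disc L :=
  have := fin_of (NotCT.Orders.he h)
  disc_row (r := 17) (NotCT.Orders.he h) fun _ hx => H547.SelfCent.HeRow.he h (NotCT.Orders.he h) hx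

theorem disc_ru (h : Spor.IsoRu L) : Disc L :=
  have := fin_of (NotCT.Orders.ru h)
  disc_row (r := 29) (NotCT.Orders.ru h) fun _ hx => H547.SelfCent.Ru.ru h (H393.Iso.na_ru h) hx

theorem disc_ly (h : Spor.IsoLy L) : Disc L :=
  have := fin_of (NotCT.Orders.ly h)
  disc_row (r := 31) (NotCT.Orders.ly h) fun _ hx => H613.Ly5.ThirtyOne.card_centralizer31 h hx

theorem disc_mcl (h : Spor.IsoMcL L) : Disc L :=
  disc_row (r := 11) (NotCT.Orders.mcl h) fun x hx => by
    rw [← (H904.McLCent.eleven h (zpowers x) (by rw [Nat.card_zpowers, hx])).1, H291.NR.cz]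

theorem disc_fi22 (h : Spor.IsoFi22 L) : Disc L :=
  disc_row (r := 13) (NotCT.Orders.fi22 h) fun _ hx => h.elim fun e => H713.Spor.Fi22.cent_13 e hx

theorem disc_tits (h : Lie.IsoTits L) (hs : IsSimpleGroup L) : Disc L :=
  have := fin_of (NotCT.Orders.tits h)
  disc_row (r := 13) (NotCT.Orders.tits h) fun _ hx => H547.SelfCent.tits h hs (H393.Iso.na_tits h) hx

theorem disc_j2 (h : Spor.IsoJ2 L) : Disc L := by
  have hN := NotCT.Orders.j2 h
  obtain ⟨e⟩ := h
  rw [Nat.card_congr e.toEquiv] at hN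
  exact disc_congr e.symm (disc_row (r := 7) hN fun _ hx => H71.Tor.card_cent_j2_seven hx)

theorem disc_suz (h : Spor.IsoSuz L) : Disc L := by
  have hN := NotCT.Orders.suz h
  obtain ⟨e⟩ := h
  rw [Nat.card_congr e.toEquiv] at hN
  obtain ⟨x, hx, hc⟩ := H474.Suz13.suz_thirteen
  exact disc_congr e.symm (disc_self (r := 13) hN hx hc)

theorem disc_hn (h : Spor.IsoHN L) : Disc L := by
  have hN := NotCT.Orders.hn h
  obtain ⟨e⟩ := h
  rw [Nat.card_congr e.toEquiv] at hN
  obtain ⟨x, hx, hc⟩ := H845.HNNineteen.hn_nineteen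
  exact disc_congr e.symm (disc_self (r := 19) hN hx hc)

theorem disc_fi23 (h : Spor.IsoFi23 L) : Disc L := by
  have hN := NotCT.Orders.fi23 h
  obtain ⟨e⟩ := h
  rw [Nat.card_congr e.toEquiv] at hN
  refine disc_congr e.symm (disc_row (r := 23) hN fun x hx => ?_)
  rw [← (H980.PwFi23.cent23 hx).1, H291.NR.cz]

theorem disc_fi24 (h : Spor.IsoFi24' L) : Disc L := by
  have hN := NotCT.Orders.fi24 h
  obtain ⟨e⟩ := h
  rw [Nat.card_congr e.toEquiv] at hN
  obtain ⟨x, -, hx, hc, -⟩ := H30.IMFi24.exists_x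
  exact disc_congr e.symm (disc_self (r := 29) hN hx hc)

end Cfsg.Agent.H291.NR
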